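import Mathlib
import Groth.Agent.Misc7.HopfPointsExtend

/-!
Rational points of torsors under affine group schemes over algebraically closed fields: the algebra.
-/

set_option autoImplicit false

universe u

open TensorProduct
open Algebra.TensorProduct (includeLeft includeRight map productMap)

noncomputable section

namespace Groth.AffTorsorPoint

section Flat

variable {k : Type u} [Field k] {A M : Type u} [CommRing A] [Algebra k A]

/-- the range of `H ⊗ M → A ⊗ M` is the kernel of `A ⊗ M → A/H ⊗ M` -/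
lemma exact_mkQ (H : Submodule k A) (M : Type u) [AddCommGroup M] [Module k M] :
    Function.Exact (H.subtype.rTensor M) (H.mkQ.rTensor M) :=
  rTensor_exact M (LinearMap.exact_subtype_mkQ H) H.mkQ_surjective

lemma mem_of_tmul_one_mem {Ω : Type u} [CommRing Ω] [Nontrivial Ω] [Algebra k Ω] (H : Submodule k A) (a : A)
    (h : a ⊗ₜ[k] (1 : Ω) ∈ LinearMap.range (H.subtype.rTensor Ω)) : a ∈ H := by
  have h0 : H.mkQ a ⊗ₜ[k] (1 : Ω) = 0 := ((exact_mkQ H Ω) _).2 h
  have hi : Function.Injective ((Algebra.linearMap k Ω).lTensor (A ⧸ H)) :=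
    Module.Flat.lTensor_preserves_injective_linearMap _ (algebraMap k Ω).injective
  have := @hi (H.mkQ a ⊗ₜ[k] (1 : k)) 0 (by simpa using h0)
  have := congrArg (TensorProduct.rid k (A ⧸ H)) this
  simpa using this

lemma range_map_val (H : Subalgebra k A) {B : Type u} [CommRing B] [Algebra k B] (z : A ⊗[k] B) :
    z ∈ (map H.val (AlgHom.id k B)).range ↔ z ∈ LinearMap.range (H.toSubmodule.subtype.rTensor B) :=
  Iff.rfl

lemma injective_map_val (H : Subalgebra k A) {B : Type u} [CommRing B] [Algebra k B] :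
    Function.Injective (map H.val (AlgHom.id k B)) :=
  Module.Flat.rTensor_preserves_injective_linearMap (M := B) H.val.toLinearMap Subtype.val_injective

lemma map_mem_range (H : Subalgebra k A) {B C : Type u} [CommRing B] [Algebra k B] [CommRing C] [Algebra k C]
    (f : B →ₐ[k] C) {z : A ⊗[k] B} (h : z ∈ (map H.val (AlgHom.id k B)).range) :
    map (AlgHom.id k A) f z ∈ (map H.val (AlgHom.id k C)).range := by
  obtain ⟨t, rfl⟩ := h
  refine ⟨map (AlgHom.id k H) f t, ?_⟩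
  change ((map H.val (AlgHom.id k C)).comp (map (AlgHom.id k H) f)) t =
    ((map (AlgHom.id k A) f).comp (map H.val (AlgHom.id k B))) t
  rw [← Algebra.TensorProduct.map_comp, ← Algebra.TensorProduct.map_comp]
  rfl

lemma range_map_mono {H H' : Subalgebra k A} (h : H ≤ H') {B : Type u} [CommRing B] [Algebra k B] :
    (map H.val (AlgHom.id k B)).range ≤ (map H'.val (AlgHom.id k B)).range := by
  rintro _ ⟨t, rfl⟩
  refine ⟨map (Subalgebra.inclusion h) (AlgHom.id k B) t, ?_⟩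
  change ((map H'.val (AlgHom.id k B)).comp (map (Subalgebra.inclusion h) (AlgHom.id k B))) t = _
  rw [← Algebra.TensorProduct.map_comp]
  rfl

end Flat

variable (k : Type u) [Field k] (A : Type u) [CommRing A] [HopfAlgebra k A]
  (B : Type u) [CommRing B] [Algebra k B] (Ω : Type u) [Field Ω] [Algebra k Ω]

/-- the data of a torsor `Spec B` under `Spec A` with a point over `Ω` -/
structure Datum where
  /-- the coaction -/
  α : B →ₐ[k] A ⊗[k] B
  /-- the trivialisation over `Ω` -/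
  φ : B ⊗[k] Ω ≃ₐ[k] A ⊗[k] Ω
  φ_right : ∀ w : Ω, φ (1 ⊗ₜ w) = 1 ⊗ₜ w
  equivariant : ∀ b : B, Algebra.TensorProduct.assoc k k k A A Ω
      (map (Bialgebra.comulAlgHom k A) (AlgHom.id k Ω) (φ (b ⊗ₜ 1))) =
    map (AlgHom.id k A) ((φ : B ⊗[k] Ω →ₐ[k] A ⊗[k] Ω).comp includeLeft) (α b)

variable {k A B Ω} (D : Datum k A B Ω)

/-- `A ⊗ Ω → A ⊗ (A ⊗ Ω)` -/
def comulΩ : A ⊗[k] Ω →ₐ[k] A ⊗[k] (A ⊗[k] Ω) :=
  (Algebra.TensorProduct.assoc k k k A A Ω).toAlgHom.comp (map (Bialgebra.comulAlgHom k A) (AlgHom.id k Ω))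

/-- the coinvariants for a Hopf subalgebra -/
def Datum.sub (H : Subalgebra k A) : Subalgebra k B :=
  (map H.val (AlgHom.id k B)).range.comap D.α

/-- `sub H ⊗ Ω → B ⊗ Ω` -/
def Datum.jH (H : Subalgebra k A) : D.sub H ⊗[k] Ω →ₐ[k] B ⊗[k] Ω :=
  map (D.sub H).val (AlgHom.id k Ω)

lemma sub_mono {H H' : Subalgebra k A} (h : H ≤ H') : D.sub H ≤ D.sub H' :=
  fun _ hb => range_map_mono h hb

/-- elements of `sub H` go into `H ⊗ Ω` -/
lemma φ_mem (H : Subalgebra k A) {b : B} (hb : b ∈ D.sub H) :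
    D.φ (b ⊗ₜ 1) ∈ (map H.val (AlgHom.id k Ω)).range := by
  let c : A ⊗[k] Ω →ₐ[k] Ω := productMap ((Algebra.ofId k Ω).comp (Bialgebra.counitAlgHom k A)) (AlgHom.id k Ω)
  have h := congrArg (map (AlgHom.id k A) c) (D.equivariant b)
  have hl : ∀ z : A ⊗[k] Ω, map (AlgHom.id k A) c (Algebra.TensorProduct.assoc k k k A A Ω
      (map (Bialgebra.comulAlgHom k A) (AlgHom.id k Ω) z)) = z := by
    intro z
    induction z with
    | zero => simp
    | add x y hx hy => simp [hx, hy]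
    | tmul a w =>
      have e : ∀ s : A ⊗[k] A, map (AlgHom.id k A) c (Algebra.TensorProduct.assoc k k k A A Ω (s ⊗ₜ w)) =
          (TensorProduct.rid k A ((CoalgebraStruct.counit (R := k) (A := A)).lTensor A s)) ⊗ₜ w := by
        intro s
        induction s with
        | zero => simp
        | add x y hx hy => simp [add_tmul, hx, hy]
        | tmul p q => simp [c, smul_tmul, ← Algebra.smul_def]
      rw [Algebra.TensorProduct.map_tmul, AlgHom.id_apply]
      refine (e _).trans ?_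
      simp [Coalgebra.lTensor_counit_comul]
  rw [hl] at h
  rw [h]
  refine map_mem_range H c ?_
  exact map_mem_range H _ hb

lemma jH_mem (H : Subalgebra k A) (t : D.sub H ⊗[k] Ω) :
    D.φ (D.jH H t) ∈ (map H.val (AlgHom.id k Ω)).range := by
  induction t with
  | zero => simp only [map_zero]; exact zero_mem _
  | add x y hx hy => simp only [map_add]; exact add_mem hx hy
  | tmul b w =>
    have : (b : B) ⊗ₜ[k] w = ((b : B) ⊗ₜ[k] (1 : Ω)) * ((1 : B) ⊗ₜ[k] w) := by simp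
    rw [Datum.jH, Algebra.TensorProduct.map_tmul, AlgHom.id_apply, Subalgebra.coe_val, this, map_mul, D.φ_right]
    exact mul_mem (φ_mem D H b.2) ⟨(1 : H) ⊗ₜ w, by simp⟩

/-- conversely, everything in `H ⊗ Ω` comes from `sub H ⊗ Ω` -/
lemma exists_preimage {H : Subalgebra k A} (hH : SGA3.IsHopfSubalgebra k A H) {z : A ⊗[k] Ω}
    (hz : z ∈ (map H.val (AlgHom.id k Ω)).range) : ∃ t : D.sub H ⊗[k] Ω, D.φ (D.jH H t) = z := by
  let w := D.φ.symm z
  let e₁ := (Algebra.TensorProduct.assoc k k k A B Ω).toAlgHom.comp (map D.α (AlgHom.id k Ω))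
  have key : (map (AlgHom.id k A) (D.φ : B ⊗[k] Ω →ₐ[k] A ⊗[k] Ω)).comp e₁ =
      comulΩ.comp (D.φ : B ⊗[k] Ω →ₐ[k] A ⊗[k] Ω) := by
    refine Algebra.TensorProduct.ext (AlgHom.ext fun b => ?_) (AlgHom.ext fun v => ?_)
    · refine Eq.trans ?_ (D.equivariant b).symm
      change map (AlgHom.id k A) (D.φ : B ⊗[k] Ω →ₐ[k] A ⊗[k] Ω)
        (Algebra.TensorProduct.assoc k k k A B Ω (D.α b ⊗ₜ 1)) = _
      induction D.α b with
      | zero => simp
      | add x y hx hy => simp only [add_tmul, map_add, hx, hy]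
      | tmul p q => simp
    · simp [e₁, comulΩ, D.φ_right, Algebra.TensorProduct.one_def]
  have hC : comulΩ z ∈ (map H.val (AlgHom.id k (A ⊗[k] Ω))).range := by
    obtain ⟨t, rfl⟩ := hz
    induction t with
    | zero => simp only [map_zero]; exact zero_mem _
    | add x y hx hy => simp only [map_add]; exact add_mem hx hy
    | tmul h v =>
      obtain ⟨s, hs⟩ := hH.1 h h.2
      change Algebra.TensorProduct.assoc k k k A A Ω (Coalgebra.comul (R := k) (h : A) ⊗ₜ[k] v) ∈ _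
      rw [← hs]
      clear hs
      induction s with
      | zero => simp only [map_zero, zero_tmul]; exact zero_mem _
      | add x y hx hy => simp only [map_add, add_tmul]; exact add_mem hx hy
      | tmul p q => exact ⟨p ⊗ₜ ((q : A) ⊗ₜ v), by simp⟩
  have he : e₁ w ∈ (map H.val (AlgHom.id k (B ⊗[k] Ω))).range := by
    have h1 := DFunLike.congr_fun key w
    have h2 : (D.φ : B ⊗[k] Ω →ₐ[k] A ⊗[k] Ω) w = z := D.φ.apply_symm_apply z
    have h3 := map_mem_range H (D.φ.symm : A ⊗[k] Ω →ₐ[k] B ⊗[k] Ω) hC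
    change map (AlgHom.id k A) (D.φ : B ⊗[k] Ω →ₐ[k] A ⊗[k] Ω) (e₁ w) = comulΩ ((D.φ : B ⊗[k] Ω →ₐ[k] A ⊗[k] Ω) w) at h1
    rw [h2] at h1
    have e4 : ∀ y, map (AlgHom.id k A) (D.φ.symm : A ⊗[k] Ω →ₐ[k] B ⊗[k] Ω)
        (map (AlgHom.id k A) (D.φ : B ⊗[k] Ω →ₐ[k] A ⊗[k] Ω) y) = y := fun y => by
      rw [← AlgHom.comp_apply, ← Algebra.TensorProduct.map_comp, AlgHom.comp_id, AlgEquiv.symm_comp,
        Algebra.TensorProduct.map_id, AlgHom.id_apply]
    rw [← h1, e4] at h3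
    exact h3
  let L : B →ₗ[k] (A ⧸ H.toSubmodule) ⊗[k] B := H.toSubmodule.mkQ.rTensor B ∘ₗ D.α.toLinearMap
  have hL : (L.rTensor Ω) w = 0 := by
    have h0 : H.toSubmodule.mkQ.rTensor (B ⊗[k] Ω) (e₁ w) = 0 :=
      ((exact_mkQ H.toSubmodule (B ⊗[k] Ω)) _).2 he
    have e : (H.toSubmodule.mkQ.rTensor (B ⊗[k] Ω)) ∘ₗ e₁.toLinearMap =
        (TensorProduct.assoc k (A ⧸ H.toSubmodule) B Ω).toLinearMap ∘ₗ L.rTensor Ω := by
      refine TensorProduct.ext' fun b v => ?_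
      simp only [L, e₁, LinearMap.comp_apply, AlgHom.toLinearMap_apply, AlgHom.comp_apply,
        Algebra.TensorProduct.map_tmul, AlgHom.id_apply, LinearMap.rTensor_tmul]
      induction D.α b with
      | zero => simp
      | add x y hx hy => simp only [add_tmul, map_add, hx, hy]
      | tmul p q => simp
    exact (TensorProduct.assoc k (A ⧸ H.toSubmodule) B Ω).injective
      (((DFunLike.congr_fun e w).symm.trans h0).trans (LinearEquiv.map_zero _).symm)
  have hker : LinearMap.ker L = (D.sub H).toSubmodule := by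
    ext b
    exact (exact_mkQ H.toSubmodule B) (D.α b)
  have hex : Function.Exact (D.sub H).toSubmodule.subtype L := by
    rw [← hker]
    exact LinearMap.exact_subtype_ker_map L
  obtain ⟨t, ht⟩ := ((Module.Flat.rTensor_exact Ω hex) w).1 hL
  exact ⟨t, (congrArg D.φ ht).trans (D.φ.apply_symm_apply z)⟩

lemma injective_jH (H : Subalgebra k A) : Function.Injective (D.jH H) := injective_map_val _

/-- `sub ⊥` is the constants -/
lemma sub_bot {b : B} (hb : b ∈ D.sub ⊥) : b ∈ (⊥ : Subalgebra k B) := by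
  obtain ⟨t, ht⟩ := φ_mem D ⊥ hb
  obtain ⟨w, hw⟩ : ∃ w : Ω, D.φ (b ⊗ₜ 1) = 1 ⊗ₜ w := by
    rw [← ht]
    clear ht
    induction t with
    | zero => exact ⟨0, by simp⟩
    | add x y hx hy =>
      obtain ⟨v, hv⟩ := hx
      obtain ⟨v', hv'⟩ := hy
      exact ⟨v + v', by rw [map_add, hv, hv', tmul_add]⟩
    | tmul h v =>
      obtain ⟨c, hc⟩ := Algebra.mem_bot.1 h.2
      exact ⟨c • v, by simp [← hc, Algebra.algebraMap_eq_smul_one, smul_tmul]⟩
  rw [← D.φ_right, D.φ.injective.eq_iff] at hw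
  refine mem_of_tmul_one_mem (Ω := Ω) (⊥ : Subalgebra k B).toSubmodule b ?_
  exact hw ▸ ⟨(1 : (⊥ : Subalgebra k B)) ⊗ₜ w, by simp⟩

/-- points of `sub H` extend to `B` over some field -/
lemma exists_field_point {H : Subalgebra k A} (hH : SGA3.IsHopfSubalgebra k A H) (q : D.sub H →ₐ[k] k) :
    ∃ (L : Type u) (_ : Field L) (_ : Algebra k L) (g : B →ₐ[k] L), ∀ b : D.sub H, g b = algebraMap k L (q b) := by
  let e₀ : D.sub H ⊗[k] Ω →ₐ[k] A ⊗[k] Ω := (D.φ : B ⊗[k] Ω →ₐ[k] A ⊗[k] Ω).comp (D.jH H)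
  let e₁ : D.sub H ⊗[k] Ω →ₐ[k] (map H.val (AlgHom.id k Ω)).range :=
    e₀.codRestrict _ fun t => jH_mem D H t
  have he₁ : Function.Bijective e₁ :=
    ⟨fun x y h => injective_jH D H (D.φ.injective (congrArg Subtype.val h)),
      fun ⟨z, hz⟩ => (exists_preimage D hH hz).imp fun t ht => Subtype.ext ht⟩
  let e : D.sub H ⊗[k] Ω ≃ₐ[k] H ⊗[k] Ω :=
    (AlgEquiv.ofBijective e₁ he₁).trans (AlgEquiv.ofInjective _ (injective_map_val H)).symm
  have he : ∀ t, map H.val (AlgHom.id k Ω) (e t) = D.φ (D.jH H t) := fun t =>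
    congrArg Subtype.val ((AlgEquiv.ofInjective _ (injective_map_val H)).apply_symm_apply
      (AlgEquiv.ofBijective e₁ he₁ t))
  let qΩ : D.sub H ⊗[k] Ω →ₐ[k] Ω := productMap ((Algebra.ofId k Ω).comp q) (AlgHom.id k Ω)
  let ρ : H →ₐ[k] Ω := qΩ.comp ((e.symm : H ⊗[k] Ω →ₐ[k] D.sub H ⊗[k] Ω).comp includeLeft)
  letI : Algebra H Ω := ρ.toRingHom.toAlgebra
  haveI : Module.FaithfullyFlat H A := Groth.Sga3.SubHopfFlat.faithfullyFlat H hH.1 hH.2
  obtain ⟨L, hL, gA, gΩ, hcomm⟩ : ∃ (L : Type u) (_ : Field L) (gA : A →+* L) (gΩ : Ω →+* L),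
      ∀ h : H, gA h = gΩ (ρ h) := by
    obtain ⟨m, hm⟩ := Ideal.exists_maximal (A ⊗[H] Ω)
    letI := Ideal.Quotient.field m
    refine ⟨(A ⊗[H] Ω) ⧸ m, inferInstance, (Ideal.Quotient.mk m).comp Algebra.TensorProduct.includeLeftRingHom,
      (Ideal.Quotient.mk m).comp (includeRight : Ω →ₐ[H] A ⊗[H] Ω).toRingHom, fun h => ?_⟩
    refine congrArg (Ideal.Quotient.mk m) ?_
    change (h : A) ⊗ₜ[H] (1 : Ω) = (1 : A) ⊗ₜ[H] ρ h
    rw [show (h : A) = h • (1 : A) from (mul_one _).symm, smul_tmul]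
    exact congrArg _ (mul_one _)
  letI : Algebra k L := (gΩ.comp (algebraMap k Ω)).toAlgebra
  let gA' : A →ₐ[k] L := ⟨gA, fun c => by
    refine (hcomm (algebraMap k H c)).trans ?_
    rw [ρ.commutes]
    rfl⟩
  let gΩ' : Ω →ₐ[k] L := ⟨gΩ, fun c => rfl⟩
  let G : A ⊗[k] Ω →ₐ[k] L := productMap gA' gΩ'
  refine ⟨L, inferInstance, inferInstance, G.comp ((D.φ : B ⊗[k] Ω →ₐ[k] A ⊗[k] Ω).comp includeLeft), fun b => ?_⟩
  have hhom : (G.comp (map H.val (AlgHom.id k Ω))) = gΩ'.comp (qΩ.comp (e.symm : H ⊗[k] Ω →ₐ[k] _)) := by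
    refine Algebra.TensorProduct.ext (AlgHom.ext fun h => ?_) (AlgHom.ext fun w => ?_)
    · change G ((h : A) ⊗ₜ 1) = gΩ (ρ h)
      simp only [G, Algebra.TensorProduct.productMap_left_apply]
      exact hcomm h
    · have h1 : e.symm ((1 : H) ⊗ₜ w) = (1 : D.sub H) ⊗ₜ w := by
        rw [AlgEquiv.symm_apply_eq]
        apply injective_map_val H
        rw [he]
        simp [Datum.jH, D.φ_right]
      simp [G, qΩ, h1, gΩ']
  have h2 := DFunLike.congr_fun hhom (e (b ⊗ₜ 1))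
  rw [AlgHom.comp_apply, he] at h2
  refine Eq.trans ?_ (h2.trans ?_)
  · simp [Datum.jH]
  · simp [qΩ, gΩ']
    rfl

/-- a point of `sub H` extends over a finitely generated extension -/
lemma exists_extend_step [IsAlgClosed k] {H : Subalgebra k A} (hH : SGA3.IsHopfSubalgebra k A H)
    (q : D.sub H →ₐ[k] k) (x : A) :
    ∃ (H' : Subalgebra k A) (hle : H ≤ H'), x ∈ H' ∧ SGA3.IsHopfSubalgebra k A H' ∧
      ∃ r : D.sub H' →ₐ[k] k, ∀ b : D.sub H, r (Subalgebra.inclusion (sub_mono D hle) b) = q b := by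
  classical
  obtain ⟨C, hxC, hCfg, hC⟩ := Groth.Agent.S5375.result k A x
  let H' := H ⊔ C
  have hle : H ≤ H' := le_sup_left
  have hH' : SGA3.IsHopfSubalgebra k A H' := by
    have := Groth.Misc7.HopfPoints.isHopfSubalgebra_iSup (fun b : Bool => cond b H C)
      (fun b => by cases b <;> assumption)
    rwa [← sup_eq_iSup] at this
  obtain ⟨s, hs⟩ := hCfg
  have hsH' : ∀ c ∈ s, c ⊗ₜ[k] (1 : Ω) ∈ (map H'.val (AlgHom.id k Ω)).range := fun c hc =>
    ⟨⟨c, le_sup_right (a := H) (hs ▸ Algebra.subset_adjoin hc)⟩ ⊗ₜ 1, by simp⟩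
  choose t ht using fun c : s => exists_preimage D hH' (hsH' c c.2)
  choose F hF using fun c : s => TensorProduct.exists_finset (t c)
  let T : Set B := Subtype.val '' (↑(Finset.univ.biUnion fun c : s => (F c).image Prod.fst) : Set (D.sub H'))
  have hTfin : T.Finite := (Finset.finite_toSet _).image _
  let S := D.sub H ⊔ Algebra.adjoin k T
  have hS : S ≤ D.sub H' := sup_le (sub_mono D hle) (Algebra.adjoin_le (by
    rintro _ ⟨b, -, rfl⟩
    exact b.2))
  -- everything in `H' ⊗ Ω` comes from `S ⊗ Ω`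
  let J := (map S.val (AlgHom.id k Ω)).range.map (D.φ : B ⊗[k] Ω →ₐ[k] A ⊗[k] Ω)
  let M : Subalgebra k A := J.comap (includeLeft : A →ₐ[k] A ⊗[k] Ω)
  have hM : H' ≤ M := by
    refine sup_le (fun h hh => ?_) ?_
    · obtain ⟨t', ht'⟩ := exists_preimage D hH (z := h ⊗ₜ (1 : Ω)) ⟨⟨h, hh⟩ ⊗ₜ 1, by simp⟩
      exact ⟨D.jH H t', range_map_mono le_sup_left ⟨t', rfl⟩, ht'⟩
    · rw [← hs]
      refine Algebra.adjoin_le fun c hc => ⟨D.jH H' (t ⟨c, hc⟩), ?_, ht ⟨c, hc⟩⟩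
      rw [hF ⟨c, hc⟩, map_sum]
      refine sum_mem fun i hi => ⟨⟨(i.1 : B), ?_⟩ ⊗ₜ i.2, by simp [Datum.jH]⟩
      refine le_sup_right (a := D.sub H) (Algebra.subset_adjoin ⟨i.1, ?_, rfl⟩)
      exact Finset.mem_coe.2 (Finset.mem_biUnion.2 ⟨⟨c, hc⟩, Finset.mem_univ _, Finset.mem_image_of_mem _ hi⟩)
  have hSeq : D.sub H' ≤ S := fun b hb => by
    obtain ⟨u, hu⟩ := φ_mem D H' hb
    have : D.φ (b ⊗ₜ 1) ∈ J := by
      rw [← hu]
      clear hu
      induction u with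
      | zero => simp only [map_zero]; exact zero_mem _
      | add p p' hp hp' => simp only [map_add]; exact add_mem hp hp'
      | tmul h v =>
        change (h : A) ⊗ₜ[k] v ∈ J
        rw [show (h : A) ⊗ₜ[k] v = ((h : A) ⊗ₜ[k] (1 : Ω)) * ((1 : A) ⊗ₜ[k] v) by simp]
        exact mul_mem (hM h.2) ⟨1 ⊗ₜ v, ⟨(1 : S) ⊗ₜ v, by simp⟩, D.φ_right v⟩
    obtain ⟨p, hp, hpb⟩ := this
    obtain rfl : p = b ⊗ₜ 1 := D.φ.injective hpb
    exact mem_of_tmul_one_mem S.toSubmodule b hp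
  -- the fibre over `q`
  let ι := Subalgebra.inclusion (sub_mono D hle)
  obtain ⟨L, _, _, g, hg⟩ := exists_field_point D hH q
  let gL : D.sub H' →ₐ[k] L := g.comp (D.sub H').val
  let P := gL.range
  have hP : P = Algebra.adjoin k (g '' T) := by
    refine le_antisymm ?_ (Algebra.adjoin_le ?_)
    · rintro _ ⟨b, rfl⟩
      have : g b ∈ S.map g := ⟨b, hSeq b.2, rfl⟩
      rw [Algebra.map_sup, AlgHom.map_adjoin] at this
      refine (sup_le ?_ le_rfl : (D.sub H).map g ⊔ Algebra.adjoin k (g '' T) ≤ _) this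
      rintro _ ⟨c, hc, rfl⟩
      exact (hg ⟨c, hc⟩).symm ▸ Subalgebra.algebraMap_mem _ _
    · rintro _ ⟨b, hb, rfl⟩
      exact ⟨⟨b, hS (le_sup_right (a := D.sub H) (Algebra.subset_adjoin hb))⟩, rfl⟩
  haveI : Algebra.FiniteType k P :=
    ⟨(Subalgebra.fg_top P).2 (hP ▸ ⟨(hTfin.image g).toFinset, by simp⟩)⟩
  obtain ⟨p, -⟩ := Groth.Misc7.HopfPoints.exists_point_ne_zero (k := k) (f := (1 : P)) not_isNilpotent_one
  refine ⟨H', hle, le_sup_right (a := H) hxC, hH', p.comp gL.rangeRestrict, fun b => ?_⟩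
  have : gL.rangeRestrict (ι b) = algebraMap k P (q b) := Subtype.ext (hg b)
  change p (gL.rangeRestrict (ι b)) = q b
  rw [this, p.commutes]
  rfl

lemma sub_sSup {c : Set (Subalgebra k A)} (hc : DirectedOn (· ≤ ·) c) (hne : c.Nonempty) {b : B}
    (hb : b ∈ D.sub (sSup c)) : ∃ H ∈ c, b ∈ D.sub H := by
  obtain ⟨t, ht⟩ := hb
  suffices ∃ H ∈ c, map (sSup c).val (AlgHom.id k B) t ∈ (map H.val (AlgHom.id k B)).range by
    obtain ⟨H, hH, h⟩ := this
    exact ⟨H, hH, show D.α b ∈ _ from ht ▸ h⟩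
  clear ht
  induction t with
  | zero =>
    obtain ⟨H, hH⟩ := hne
    exact ⟨H, hH, by simp only [map_zero]; exact zero_mem _⟩
  | add x y hx hy =>
    obtain ⟨H, hH, hxH⟩ := hx
    obtain ⟨H', hH', hyH⟩ := hy
    obtain ⟨K, hK, h1, h2⟩ := hc H hH H' hH'
    exact ⟨K, hK, by simp only [map_add]; exact add_mem (range_map_mono h1 hxH) (range_map_mono h2 hyH)⟩
  | tmul h v =>
    obtain ⟨a, hmem⟩ := h
    obtain ⟨H, hH, hh⟩ : ∃ H ∈ c, a ∈ H := by
      haveI : Nonempty c := hne.to_subtype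
      rw [sSup_eq_iSup', ← SetLike.mem_coe, Subalgebra.coe_iSup_of_directed hc.directed_val,
        Set.mem_iUnion] at hmem
      obtain ⟨i, hi⟩ := hmem
      exact ⟨i, i.2, hi⟩
    exact ⟨H, hH, ⟨⟨a, hh⟩ ⊗ₜ v, by simp⟩⟩

include D in
/-- a torsor over an algebraically closed field has a point -/
theorem Datum.exists_point [IsAlgClosed k] : Nonempty (B →ₐ[k] k) := by
  let St : Set (Subalgebra k A × Subalgebra k (B × k)) :=
    {p | SGA3.IsHopfSubalgebra k A p.1 ∧ p.2.map (AlgHom.fst k B k) = D.sub p.1 ∧ ∀ x ∈ p.2, x.1 = 0 → x.2 = 0}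
  let G : ∀ (H : Subalgebra k A), (D.sub H →ₐ[k] k) → Subalgebra k (B × k) := fun H q =>
    ((D.sub H).val.prod q).range
  have hG : ∀ (H : Subalgebra k A) (_ : SGA3.IsHopfSubalgebra k A H) (q : D.sub H →ₐ[k] k), (H, G H q) ∈ St := by
    intro H hH q
    refine ⟨hH, ?_, ?_⟩
    · rw [← AlgHom.range_comp, AlgHom.fst_prod, Subalgebra.range_val]
    · rintro _ ⟨b, rfl⟩ h
      obtain rfl : b = 0 := Subtype.ext h
      simp
  have hbot : SGA3.IsHopfSubalgebra k A ⊥ := by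
    have := Groth.Misc7.HopfPoints.isHopfSubalgebra_iSup (k := k) (A := A) (fun i : Empty => i.elim) (fun i => i.elim)
    rwa [iSup_of_empty] at this
  haveI : Nontrivial B := by
    by_contra hB
    haveI : Subsingleton B := not_nontrivial_iff_subsingleton.1 hB
    haveI : Subsingleton (A ⊗[k] Ω) := D.φ.symm.injective.subsingleton
    let f : A ⊗[k] Ω →ₐ[k] Ω := productMap ((Algebra.ofId k Ω).comp (Bialgebra.counitAlgHom k A)) (AlgHom.id k Ω)
    exact one_ne_zero ((map_one f).symm.trans ((congrArg f (Subsingleton.elim 1 0)).trans (map_zero f)))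
  let q₀ : D.sub ⊥ →ₐ[k] k := (Algebra.botEquiv k B : (⊥ : Subalgebra k B) →ₐ[k] k).comp
    (Subalgebra.inclusion fun b hb => sub_bot D hb)
  obtain ⟨p, -, hmax⟩ := zorn_le_nonempty₀ St (fun c hc hchain y hy => by
    refine ⟨(sSup (Prod.fst '' c), sSup (Prod.snd '' c)), ⟨?_, ?_, ?_⟩,
      fun z hz => ⟨le_sSup ⟨z, hz, rfl⟩, le_sSup ⟨z, hz, rfl⟩⟩⟩
    · change SGA3.IsHopfSubalgebra k A (sSup (Prod.fst '' c))
      rw [sSup_eq_iSup']
      exact Groth.Misc7.HopfPoints.isHopfSubalgebra_iSup _ fun ⟨_, z, hz, e⟩ => e ▸ (hc hz).1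
    · have hne : (Prod.fst '' c).Nonempty := ⟨_, y, hy, rfl⟩
      have hd : DirectedOn (· ≤ ·) (Prod.fst '' c) := by
        rintro _ ⟨z, hz, rfl⟩ _ ⟨z', hz', rfl⟩
        rcases hchain.total hz hz' with h | h
        · exact ⟨_, ⟨z', hz', rfl⟩, h.1, le_rfl⟩
        · exact ⟨_, ⟨z, hz, rfl⟩, le_rfl, h.1⟩
      change (sSup (Prod.snd '' c)).map (AlgHom.fst k B k) = D.sub (sSup (Prod.fst '' c))
      refine le_antisymm ?_ fun b hb => ?_
      · rw [sSup_eq_iSup' (Prod.snd '' c), (Subalgebra.gc_map_comap (AlgHom.fst k B k)).l_iSup]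
        refine iSup_le ?_
        rintro ⟨_, z, hz, rfl⟩
        change z.2.map (AlgHom.fst k B k) ≤ _
        rw [(hc hz).2.1]
        exact sub_mono D (le_sSup ⟨z, hz, rfl⟩)
      · obtain ⟨_, ⟨z, hz, rfl⟩, hbz⟩ := sub_sSup D hd hne hb
        rw [← (hc hz).2.1] at hbz
        exact Subalgebra.map_mono (le_sSup (⟨z, hz, rfl⟩ : z.2 ∈ Prod.snd '' c)) hbz
    · intro x hx
      haveI : Nonempty (Prod.snd '' c) := ⟨⟨_, y, hy, rfl⟩⟩
      have hd : DirectedOn (· ≤ ·) (Prod.snd '' c) := by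
        rintro _ ⟨z, hz, rfl⟩ _ ⟨z', hz', rfl⟩
        rcases hchain.total hz hz' with h | h
        · exact ⟨_, ⟨z', hz', rfl⟩, h.2, le_rfl⟩
        · exact ⟨_, ⟨z, hz, rfl⟩, le_rfl, h.2⟩
      change x ∈ sSup (Prod.snd '' c) at hx
      rw [sSup_eq_iSup', ← SetLike.mem_coe, Subalgebra.coe_iSup_of_directed hd.directed_val,
        Set.mem_iUnion] at hx
      obtain ⟨⟨_, z, hz, rfl⟩, hi⟩ := hx
      exact (hc hz).2.2 x hi) _ (hG ⊥ hbot q₀)
  obtain ⟨H, Γ⟩ := p
  obtain ⟨hH, hfst, hinj⟩ := hmax.prop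
  let f : Γ →ₐ[k] B := (AlgHom.fst k B k).comp Γ.val
  have hf : Function.Injective f := by
    refine (injective_iff_map_eq_zero f).2 fun x hx => Subtype.ext ?_
    exact Prod.ext hx (hinj x.1 x.2 hx)
  let e : Γ ≃ₐ[k] D.sub H := AlgEquiv.ofBijective (f.codRestrict (D.sub H) fun x => hfst.le ⟨x.1, x.2, rfl⟩)
    ⟨fun x y h => hf (congrArg Subtype.val h), by
      rintro ⟨b, hb⟩
      obtain ⟨x, hx, rfl⟩ := hfst.ge hb
      exact ⟨⟨x, hx⟩, rfl⟩⟩
  let q : D.sub H →ₐ[k] k := ((AlgHom.snd k B k).comp Γ.val).comp (e.symm : D.sub H →ₐ[k] Γ)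
  have hΓ : Γ ≤ G H q := fun x hx => ⟨e ⟨x, hx⟩, Prod.ext rfl (by simp [q])⟩
  have htop : H = ⊤ := by
    rw [eq_top_iff]
    intro x _
    obtain ⟨H', hle, hx, hH', r, hr⟩ := exists_extend_step D hH q x
    have h1 : G H q ≤ G H' r := by
      rintro _ ⟨b, rfl⟩
      exact ⟨Subalgebra.inclusion (sub_mono D hle) b, Prod.ext rfl (hr b)⟩
    exact (hmax.2 (hG H' hH' r) ⟨hle, hΓ.trans h1⟩).1 hx
  have hall : ∀ b : B, b ∈ D.sub H := fun b => by
    subst htop
    show D.α b ∈ (map (⊤ : Subalgebra k A).val (AlgHom.id k B)).range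
    induction D.α b with
    | zero => exact zero_mem _
    | add x y hx hy => exact add_mem hx hy
    | tmul a v => exact ⟨⟨a, Algebra.mem_top⟩ ⊗ₜ v, by simp⟩
  exact ⟨q.comp ((AlgHom.id k B).codRestrict (D.sub H) hall)⟩

end Groth.AffTorsorPoint
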